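import Groth.Agent.EtShLib.Point
import Groth.Agent.WeightLib.EtaleQF
import Groth.Agent.WeightLib.Pts
import Mathlib.CategoryTheory.CofilteredSystem
import Mathlib.AlgebraicGeometry.Morphisms.UniversallyOpen
import Mathlib.AlgebraicGeometry.Morphisms.Flat

/-! Points of the small étale site are geometric points. -/

set_option autoImplicit false
set_option linter.unusedSectionVars false
set_option linter.style.haveILetI false
set_option backward.isDefEq.respectTransparency false
set_option backward.isDefEq.respectTransparency.types false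
set_option maxHeartbeats 1000000

universe u

open CategoryTheory CategoryTheory.Limits AlgebraicGeometry Opposite TopologicalSpace

namespace Groth.Agent.EtPtClassLib

open EtShLib

variable {X : Scheme.{u}}

/-- An open subscheme of an étale object. -/
noncomputable def eObj (Q : X.Etale) (A : Q.left.Opens) : X.Etale :=
  MorphismProperty.Over.mk ⊤ (A.ι ≫ Q.hom) (by
    haveI : Etale Q.hom := Q.prop
    exact inferInstanceAs (Etale (A.ι ≫ Q.hom)))

/-- Its inclusion. -/
noncomputable def eι (Q : X.Etale) (A : Q.left.Opens) : eObj Q A ⟶ Q :=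
  MorphismProperty.Over.homMk A.ι rfl trivial

theorem mem_iff' {Z : X.Etale} (R : Sieve Z) : R ∈ X.smallEtaleTopology Z ↔
    ∀ x : Z.left, ∃ (Y : X.Etale) (f : Y ⟶ Z) (y : Y.left), R f ∧ Etale f.left ∧ f.left.base y = x := by
  have e : X.smallEtaleTopology =
      (X.smallPretopology (P := EtCoh.etaleMP) (Q := EtCoh.etaleMP)).toGrothendieck :=
    Scheme.smallGrothendieckTopology_eq_toGrothendieck_smallPretopology X le_rfl
  rw [e]
  exact Scheme.mem_toGrothendieck_smallPretopology Z R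

/-- The unique map to the terminal object. -/
noncomputable def toTop (U : X.Etale) : U ⟶ EtCoh.top X :=
  MorphismProperty.Over.homMk U.hom (Category.comp_id _) trivial

variable (p : GrothendieckTopology.Point.{u} X.smallEtaleTopology)

theorem map_map {U V W : X.Etale} (a : W ⟶ V) (b : V ⟶ U) (e : p.fiber.obj W) :
    p.fiber.map b (p.fiber.map a e) = p.fiber.map (a ≫ b) e :=
  (Functor.map_comp_apply p.fiber a b e).symm

theorem exists_span {U V : X.Etale} (d : p.fiber.obj U) (e : p.fiber.obj V) :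
    ∃ (W : X.Etale) (a : W ⟶ U) (b : W ⟶ V) (c : p.fiber.obj W), p.fiber.map a c = d ∧ p.fiber.map b c = e := by
  obtain ⟨⟨W, c⟩, a, b, -⟩ := IsCofilteredOrEmpty.cone_objs (p.fiber.elementsMk U d) (p.fiber.elementsMk V e)
  exact ⟨W, a.1, b.1, c, a.2, b.2⟩

theorem exists_cospan {U V T : X.Etale} (f : U ⟶ T) (g : V ⟶ T) (d : p.fiber.obj U) (e : p.fiber.obj V)
    (h : p.fiber.map f d = p.fiber.map g e) :
    ∃ (W : X.Etale) (a : W ⟶ U) (b : W ⟶ V) (c : p.fiber.obj W),
      p.fiber.map a c = d ∧ p.fiber.map b c = e ∧ a ≫ f = b ≫ g := by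
  obtain ⟨⟨W, c⟩, a, b, hab⟩ := IsCofiltered.cospan
    (show p.fiber.elementsMk U d ⟶ p.fiber.elementsMk T (p.fiber.map g e) from ⟨f, h⟩)
    (show p.fiber.elementsMk V e ⟶ p.fiber.elementsMk T (p.fiber.map g e) from ⟨g, rfl⟩)
  exact ⟨W, a.1, b.1, c, a.2, b.2, congrArg Subtype.val hab⟩

/-- The element lifts to the open. -/
def Lifts {U : X.Etale} (e : p.fiber.obj U) (W : U.left.Opens) : Prop :=
  ∃ (V : X.Etale) (g : V ⟶ U) (v : p.fiber.obj V), p.fiber.map g v = e ∧ ∀ z : V.left, g.left.base z ∈ W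

variable {p}

theorem Lifts.mono {U : X.Etale} {e : p.fiber.obj U} {W W' : U.left.Opens} (h : Lifts p e W) (hW : W ≤ W') :
    Lifts p e W' := by
  obtain ⟨V, g, v, hv, hg⟩ := h
  exact ⟨V, g, v, hv, fun z => hW (hg z)⟩

theorem Lifts.inf {U : X.Etale} {e : p.fiber.obj U} {W W' : U.left.Opens} (h : Lifts p e W) (h' : Lifts p e W') :
    Lifts p e (W ⊓ W') := by
  obtain ⟨V, g, v, hv, hg⟩ := h
  obtain ⟨V', g', v', hv', hg'⟩ := h'
  obtain ⟨T, a, b, c, ha, -, hab⟩ := exists_cospan p g g' v v' (hv.trans hv'.symm)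
  refine ⟨T, a ≫ g, c, by rw [← map_map, ha, hv], fun z => ⟨hg (a.left.base z), ?_⟩⟩
  rw [hab]
  exact hg' (b.left.base z)

theorem lifts_top {U : X.Etale} (e : p.fiber.obj U) : Lifts p e ⊤ :=
  ⟨U, 𝟙 U, e, by simp, fun _ => trivial⟩

theorem exists_lifts_of_sSup {U : X.Etale} {e : p.fiber.obj U} {S : Set U.left.Opens} (h : Lifts p e (sSup S)) :
    ∃ W ∈ S, Lifts p e W := by
  obtain ⟨V, g, v, hv, hg⟩ := h
  let R : Sieve V :=
    { arrows := fun T a => ∃ W ∈ S, ∀ z : T.left, g.left.base (a.left.base z) ∈ W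
      downward_closed := fun {T T' a} ⟨W, hW, ha⟩ b => ⟨W, hW, fun z => ha (b.left.base z)⟩ }
  have hR : R ∈ X.smallEtaleTopology V := (mem_iff' R).2 fun x => by
    obtain ⟨W, hW, hxW⟩ := Opens.mem_sSup.1 (hg x)
    exact ⟨eObj V (g.left ⁻¹ᵁ W), eι V _, ⟨x, hxW⟩, ⟨W, hW, fun z => z.2⟩,
      inferInstanceAs (Etale (g.left ⁻¹ᵁ W).ι), rfl⟩
  obtain ⟨T, a, ⟨W, hW, ha⟩, t, ht⟩ := p.jointly_surjective R hR v
  exact ⟨W, hW, T, a ≫ g, t, by rw [← map_map, ht, hv], ha⟩

/-- The largest open to which the element does not lift. -/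
def badOpen {U : X.Etale} (e : p.fiber.obj U) : U.left.Opens := sSup {W | ¬ Lifts p e W}

theorem lifts_iff_not_le {U : X.Etale} (e : p.fiber.obj U) (W : U.left.Opens) :
    Lifts p e W ↔ ¬ W ≤ badOpen e := by
  refine ⟨fun h hle => ?_, fun h => by_contra fun hn => h (le_sSup hn)⟩
  obtain ⟨W', hW', hl⟩ := exists_lifts_of_sSup (h.mono hle)
  exact hW' hl

theorem exists_pt {U : X.Etale} (e : p.fiber.obj U) : ∃ x : U.left, ∀ W : U.left.Opens, x ∈ W ↔ Lifts p e W := by
  let Z : Set U.left := (badOpen e : Set U.left)ᶜ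
  have hmeet : ∀ W : U.left.Opens, (Z ∩ (W : Set U.left)).Nonempty ↔ Lifts p e W := fun W => by
    rw [lifts_iff_not_le, ← SetLike.coe_subset_coe, Set.not_subset]
    exact ⟨fun ⟨z, h1, h2⟩ => ⟨z, h2, h1⟩, fun ⟨z, h1, h2⟩ => ⟨z, h2, h1⟩⟩
  have hZ : IsIrreducible Z := by
    refine ⟨?_, fun A B hA hB h1 h2 => ?_⟩
    · obtain ⟨z, hz, -⟩ := (hmeet ⊤).2 (lifts_top e)
      exact ⟨z, hz⟩
    · exact (hmeet (⟨A, hA⟩ ⊓ ⟨B, hB⟩)).2 (((hmeet ⟨A, hA⟩).1 h1).inf ((hmeet ⟨B, hB⟩).1 h2))
  have hcl : closure ({hZ.genericPoint} : Set U.left) = Z := by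
    rw [hZ.genericPoint_closure_eq]
    exact (badOpen e).isOpen.isClosed_compl.closure_eq
  refine ⟨hZ.genericPoint, fun W => ⟨fun hx => (hmeet W).1 ⟨_, ?_, hx⟩, fun h => ?_⟩⟩
  · exact hcl.subset (subset_closure rfl)
  · obtain ⟨z, hz, hzW⟩ := (hmeet W).2 h
    obtain ⟨w, hw, hw'⟩ := mem_closure_iff.1 (hcl.symm.subset hz) W W.isOpen hzW
    obtain rfl : w = _ := hw'
    exact hw

/-- The point of an element. -/
noncomputable def ptOf {U : X.Etale} (e : p.fiber.obj U) : U.left := (exists_pt e).choose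

theorem ptOf_mem {U : X.Etale} (e : p.fiber.obj U) (W : U.left.Opens) : ptOf e ∈ W ↔ Lifts p e W :=
  (exists_pt e).choose_spec W

theorem ptOf_eq {U : X.Etale} (e : p.fiber.obj U) (x : U.left)
    (h : ∀ W : U.left.Opens, x ∈ W ↔ Lifts p e W) : x = ptOf e := by
  refine (inseparable_iff_forall_isOpen.2 fun s hs => ?_).eq
  exact (h ⟨s, hs⟩).trans (ptOf_mem e ⟨s, hs⟩).symm

theorem ptOf_map {U V : X.Etale} (g : V ⟶ U) (v : p.fiber.obj V) :
    ptOf (p.fiber.map g v) = g.left.base (ptOf v) := by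
  refine (ptOf_eq _ _ fun W => (ptOf_mem v (g.left ⁻¹ᵁ W)).trans ⟨fun h => ?_, fun h => ?_⟩).symm
  · obtain ⟨T, a, t, ht, ha⟩ := h
    exact ⟨T, a ≫ g, t, by rw [← map_map, ht], ha⟩
  · obtain ⟨T, a, t, ht, ha⟩ := h
    obtain ⟨T', b, b', t', hb, -, hbb⟩ := exists_cospan p g a v t ht.symm
    refine ⟨T', b, t', hb, fun z => ?_⟩
    show (b ≫ g).left.base z ∈ W
    rw [hbb]
    exact ha (b'.left.base z)

theorem exists_elt_top (p : GrothendieckTopology.Point.{u} X.smallEtaleTopology) :
    Nonempty (p.fiber.obj (EtCoh.top X)) := by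
  obtain ⟨U, e⟩ := (IsCofiltered.nonempty (C := p.fiber.Elements)).some
  exact ⟨p.fiber.map (toTop U) e⟩

theorem elt_top_eq (d e : p.fiber.obj (EtCoh.top X)) : d = e := by
  obtain ⟨W, a, b, c, rfl, rfl⟩ := exists_span p d e
  rw [show a = b from MorphismProperty.Over.Hom.ext (by
    have h1 := MorphismProperty.Over.w a
    have h2 := MorphismProperty.Over.w b
    exact (Category.comp_id _).symm.trans ((h1.trans h2.symm).trans (Category.comp_id _)))]

variable (p) in
/-- The image point in the base. -/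
noncomputable def basePt : X := ptOf (exists_elt_top p).some

theorem hom_ptOf {U : X.Etale} (e : p.fiber.obj U) : U.hom.base (ptOf e) = basePt p := by
  rw [basePt, elt_top_eq (exists_elt_top p).some (p.fiber.map (toTop U) e), ptOf_map]
  rfl

theorem exists_elt_with_pt {Y : X.Etale} (w : Y.left) (hw : Y.hom.base w = basePt p) :
    ∃ f : p.fiber.obj Y, ptOf f = w := by
  haveI : Etale Y.hom := Y.prop
  haveI := WeightLib.locallyQuasiFinite_of_etale Y.hom
  obtain ⟨O, hO, hOw⟩ := (isDiscrete_iff_forall_mem_exists_isOpen.1 (Y.hom.isDiscrete_preimage_singleton (basePt p))) w hw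
  let O' : Y.left.Opens := ⟨O, hO⟩
  have hwO : w ∈ O' := by
    have : w ∈ ({w} : Set Y.left) := rfl
    rw [← hOw] at this
    exact this.1
  let I : (EtCoh.top X).left.Opens := ⟨Y.hom.base '' O, Y.hom.isOpenMap _ hO⟩
  obtain ⟨V, g, v, -, hg⟩ := (ptOf_mem (exists_elt_top p).some I).1 ⟨w, hwO, hw⟩
  let R : Sieve V :=
    { arrows := fun T a => ∃ b : T ⟶ Y, ∀ z : T.left, b.left.base z ∈ O'
      downward_closed := fun {T T' a} ⟨b, hb⟩ c => ⟨c ≫ b, fun z => hb (c.left.base z)⟩ }
  have hR : R ∈ X.smallEtaleTopology V := (mem_iff' R).2 fun x => by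
    obtain ⟨y, hy, hyx⟩ := hg x
    have hgV : g.left = V.hom := (Category.comp_id _).symm.trans (MorphismProperty.Over.w g)
    let T : X.Etale := MorphismProperty.Over.mk ⊤ (pullback.fst V.hom (O'.ι ≫ Y.hom) ≫ V.hom) (by
      haveI : Etale V.hom := V.prop
      exact inferInstanceAs (Etale (pullback.fst V.hom (O'.ι ≫ Y.hom) ≫ V.hom)))
    obtain ⟨t, ht, -⟩ := Scheme.Pullback.exists_preimage_pullback (f := V.hom) (g := O'.ι ≫ Y.hom) x ⟨y, hy⟩
      (by rw [← hgV]; exact hyx.symm)
    refine ⟨T, MorphismProperty.Over.homMk (pullback.fst V.hom (O'.ι ≫ Y.hom)) rfl trivial, t,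
      ⟨MorphismProperty.Over.homMk (pullback.snd V.hom (O'.ι ≫ Y.hom) ≫ O'.ι) ?_ trivial, fun z => ?_⟩, ?_, ht⟩
    · exact (Category.assoc _ _ _).trans pullback.condition.symm
    · exact ((pullback.snd V.hom (O'.ι ≫ Y.hom)).base z).2
    · exact inferInstanceAs (Etale (pullback.fst V.hom (O'.ι ≫ Y.hom)))
  obtain ⟨T, a, ⟨b, hb⟩, t, -⟩ := p.jointly_surjective R hR v
  refine ⟨p.fiber.map b t, ?_⟩
  have : ptOf (p.fiber.map b t) ∈ O ∩ Y.hom.base ⁻¹' {basePt p} := ⟨by rw [ptOf_map]; exact hb _, hom_ptOf _⟩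
  rw [hOw] at this
  exact this

theorem finite_over {k K : CommRingCat.{u}} {Ω : Type u} [Field Ω] (φ : k ⟶ K)
    (hφ : φ.hom.Finite) (ψ : k ⟶ CommRingCat.of Ω) : Finite {b : K ⟶ CommRingCat.of Ω // φ ≫ b = ψ} := by
  letI : Algebra k K := φ.hom.toAlgebra
  letI : Algebra k Ω := ψ.hom.toAlgebra
  haveI : Module.Finite k K := RingHom.finite_algebraMap.mp hφ
  refine Finite.of_injective (fun b => ({ b.1.hom with
    commutes' := fun r => congrArg (fun t : k ⟶ CommRingCat.of Ω => t.hom r) b.2 } : K →ₐ[k] Ω)) fun b b' h => ?_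
  exact Subtype.ext (CommRingCat.hom_ext (RingHom.ext fun r => DFunLike.congr_fun h r))

section Lifts

variable {Ω : Type u} [Field Ω] [IsSepClosed Ω]

theorem finite_fib_pt (ξ : Spec (CommRingCat.of Ω) ⟶ X) {U : X.Etale} (x : U.left) :
    Finite {l : Fib ξ U // l.pt = x} := by
  haveI : Etale U.hom := U.prop
  haveI := WeightLib.locallyQuasiFinite_of_etale U.hom
  have hrep : ∀ l : {l : Fib ξ U // l.pt = x}, ∃ b : U.left.residueField x ⟶ CommRingCat.of Ω,
      l.1.hom = Spec.map b ≫ U.left.fromSpecResidueField x := fun ⟨l, hl⟩ => by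
    obtain ⟨⟨y, b⟩, hb⟩ := (Scheme.SpecToEquivOfField Ω U.left).symm.surjective l.hom
    have hb' : Spec.map b ≫ U.left.fromSpecResidueField y = l.hom := hb
    obtain rfl : y = x := by
      rw [← hl]
      show y = l.hom.base default
      rw [← hb']
      exact (Scheme.fromSpecResidueField_apply _ _).symm
    exact ⟨b, hb'.symm⟩
  choose b hb using hrep
  rcases isEmpty_or_nonempty {l : Fib ξ U // l.pt = x} with h | ⟨⟨l₀⟩⟩
  · infer_instance
  have hw : ∀ l, Spec.map (U.hom.residueFieldMap x ≫ b l) ≫ X.fromSpecResidueField (U.hom.base x) = ξ := fun l =>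
    calc Spec.map (U.hom.residueFieldMap x ≫ b l) ≫ X.fromSpecResidueField (U.hom.base x)
        = Spec.map (b l) ≫ Spec.map (U.hom.residueFieldMap x) ≫ X.fromSpecResidueField (U.hom.base x) :=
          (congrArg (· ≫ X.fromSpecResidueField (U.hom.base x)) (Spec.map_comp _ _)).trans (Category.assoc _ _ _)
      _ = Spec.map (b l) ≫ U.left.fromSpecResidueField x ≫ U.hom :=
          congrArg (Spec.map (b l) ≫ ·) (Scheme.Hom.SpecMap_residueFieldMap_fromSpecResidueField U.hom x)
      _ = l.1.hom ≫ U.hom := (Category.assoc _ _ _).symm.trans (congrArg (· ≫ U.hom) (hb l).symm)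
      _ = ξ := l.1.w
  have hres : ∀ l, U.hom.residueFieldMap x ≫ b l = U.hom.residueFieldMap x ≫ b l₀ := fun l =>
    Spec.map_injective ((cancel_mono (X.fromSpecResidueField (U.hom.base x))).1 ((hw l).trans (hw l₀).symm))
  exact @Finite.of_injective _ {c : U.left.residueField x ⟶ CommRingCat.of Ω //
      U.hom.residueFieldMap x ≫ c = U.hom.residueFieldMap x ≫ b l₀}
    (finite_over (U.hom.residueFieldMap x) (WeightLib.finite_residueFieldMap U.hom x) _)
    (fun l => ⟨b l, hres l⟩) fun l l' h => Subtype.ext (Fib.ext (by rw [hb, hb, show b l = b l' from congrArg Subtype.val h]))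

theorem exists_distinguish {ξ : Spec (CommRingCat.of Ω) ⟶ X} {U V : X.Etale} (g g' : V ⟶ U) :
    ∃ E : V.left.Opens, (∀ l : Fib ξ V, l.map g = l.map g' ↔ l.pt ∈ E) ∧
      eι V E ≫ g = eι V E ≫ g' := by
  haveI : Etale U.hom := U.prop
  let h : V.left ⟶ pullback U.hom U.hom :=
    pullback.lift g.left g'.left ((MorphismProperty.Over.w g).trans (MorphismProperty.Over.w g').symm)
  let E : V.left.Opens := h ⁻¹ᵁ (pullback.diagonal U.hom).opensRange
  let k : E.toScheme ⟶ U.left := IsOpenImmersion.lift (pullback.diagonal U.hom) (E.ι ≫ h) (by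
    rintro _ ⟨z, rfl⟩
    exact z.2)
  have hk : k ≫ pullback.diagonal U.hom = E.ι ≫ h := IsOpenImmersion.lift_fac _ _ _
  have hg : k = E.ι ≫ g.left := by
    have := congrArg (· ≫ pullback.fst U.hom U.hom) hk
    simpa [h] using this
  have hg' : k = E.ι ≫ g'.left := by
    have := congrArg (· ≫ pullback.snd U.hom U.hom) hk
    simpa [h] using this
  refine ⟨E, fun l => ⟨fun he => ?_, fun hl => ?_⟩, MorphismProperty.Over.Hom.ext (hg.symm.trans hg')⟩
  · have he' : l.hom ≫ g.left = l.hom ≫ g'.left := congrArg (fun t : Fib ξ U => t.hom) he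
    refine ⟨(l.hom ≫ g.left).base default, ?_⟩
    have : (l.hom ≫ g.left) ≫ pullback.diagonal U.hom = l.hom ≫ h := by
      apply pullback.hom_ext <;> simp [h, he']
    exact congrArg (fun t : Spec (CommRingCat.of Ω) ⟶ pullback U.hom U.hom => t.base default) this
  · have hr : Set.range l.hom.base ⊆ Set.range E.ι.base := by
      rintro _ ⟨z, rfl⟩
      rw [Subsingleton.elim z default]
      exact E.range_ι.symm.subset hl
    apply Fib.ext
    show l.hom ≫ g.left = l.hom ≫ g'.left
    rw [← IsOpenImmersion.lift_fac E.ι l.hom hr, Category.assoc, Category.assoc, ← hg, ← hg']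

/-- Compatible lifts of the elements of the fibre. -/
structure LiftSys (ξ : Spec (CommRingCat.of Ω) ⟶ X) where
  θ : ∀ U : X.Etale, p.fiber.obj U → Fib ξ U
  pt_eq : ∀ (U : X.Etale) (e : p.fiber.obj U), (θ U e).pt = ptOf e
  natural : ∀ {U V : X.Etale} (g : V ⟶ U) (v : p.fiber.obj V), (θ V v).map g = θ U (p.fiber.map g v)

theorem exists_liftSys (ξ : Spec (CommRingCat.of Ω) ⟶ X) (hξ : ξ.base default = basePt p) :
    Nonempty (LiftSys (p := p) ξ) := by
  let F : p.fiber.Elements ⥤ Type u :=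
    { obj := fun j => {l : Fib ξ j.1 // l.pt = ptOf j.2}
      map := fun {i j} a => TypeCat.ofHom fun l => ⟨l.1.map a.1, by
        show (l.1.hom ≫ a.1.left).base default = ptOf j.2
        exact ((congrArg (fun z => a.1.left.base z) l.2).trans (ptOf_map a.1 i.2).symm).trans (congrArg ptOf a.2)⟩
      map_id := fun j => by ext l; exact (Functor.map_id_apply (pt ξ).fiber j.1 l.1)
      map_comp := fun a b => by ext l; exact (Functor.map_comp_apply (pt ξ).fiber a.1 b.1 l.1) }
  haveI : ∀ j, Finite (F.obj j) := fun j => finite_fib_pt ξ (ptOf j.2)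
  haveI : ∀ j, Nonempty (F.obj j) := fun j => by
    obtain ⟨l, hl⟩ := exists_fib ξ j.1 (ptOf j.2) ((hom_ptOf j.2).trans hξ.symm)
    exact ⟨⟨l, hl⟩⟩
  obtain ⟨s, hs⟩ := nonempty_sections_of_finite_cofiltered_system F
  exact ⟨{
    θ := fun U e => (s ⟨U, e⟩).1
    pt_eq := fun U e => (s ⟨U, e⟩).2
    natural := fun {U V} g v => congrArg Subtype.val
      (hs (show p.fiber.elementsMk V v ⟶ p.fiber.elementsMk U (p.fiber.map g v) from ⟨g, rfl⟩)) }⟩

variable {ξ : Spec (CommRingCat.of Ω) ⟶ X} (L : LiftSys (p := p) ξ)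

theorem LiftSys.injective (U : X.Etale) : Function.Injective (L.θ U) := fun d e h => by
  obtain ⟨V, a, b, c, rfl, rfl⟩ := exists_span p d e
  rw [← L.natural a c, ← L.natural b c] at h
  obtain ⟨E, hE, heq⟩ := exists_distinguish (ξ := ξ) a b
  have hc := (hE _).1 h
  rw [L.pt_eq] at hc
  obtain ⟨T, q, t, ht, hq⟩ := (ptOf_mem c E).1 hc
  let q' : T ⟶ eObj V E := MorphismProperty.Over.homMk (IsOpenImmersion.lift E.ι q.left (by
      rintro _ ⟨z, rfl⟩
      exact E.range_ι.symm.subset (hq z))) (by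
    show _ ≫ E.ι ≫ V.hom = T.hom
    rw [← Category.assoc, IsOpenImmersion.lift_fac]
    exact MorphismProperty.Over.w q) trivial
  have hq' : q' ≫ eι V E = q := MorphismProperty.Over.Hom.ext (IsOpenImmersion.lift_fac _ _ _)
  rw [← ht, map_map, map_map, ← hq', Category.assoc, Category.assoc, heq]

theorem LiftSys.surjective (hξ : ξ.base default = basePt p) (U : X.Etale) : Function.Surjective (L.θ U) := by
  intro l
  by_contra hl
  let x := l.pt
  have key : ∀ n : ℕ, ∃ (V : X.Etale) (v : p.fiber.obj V) (g : Fin n → (V ⟶ U)),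
      (∀ k, ((L.θ V v).map (g k)).pt = x) ∧ Function.Injective (fun k => (L.θ V v).map (g k)) := by
    intro n
    induction n with
    | zero => exact ⟨_, (exists_elt_top p).some, fun k => k.elim0, fun k => k.elim0, fun k => k.elim0⟩
    | succ n ih =>
      obtain ⟨V, v, g, hpt, hinj⟩ := ih
      haveI : Etale V.hom := V.prop
      haveI : Etale U.hom := U.prop
      let Y : X.Etale := MorphismProperty.Over.mk ⊤ (pullback.fst V.hom U.hom ≫ V.hom)
        (inferInstanceAs (Etale (pullback.fst V.hom U.hom ≫ V.hom)))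
      let a : Y ⟶ V := MorphismProperty.Over.homMk (pullback.fst V.hom U.hom) rfl trivial
      let b : Y ⟶ U := MorphismProperty.Over.homMk (pullback.snd V.hom U.hom) pullback.condition.symm trivial
      let m : Fib ξ Y := Fib.mk (U := Y) (pullback.lift (L.θ V v).hom l.hom ((L.θ V v).w.trans l.w.symm)) (by
        show _ ≫ pullback.fst V.hom U.hom ≫ V.hom = ξ
        rw [pullback.lift_fst_assoc]
        exact (L.θ V v).w)
      have hma : m.map a = L.θ V v := Fib.ext (pullback.lift_fst _ _ _)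
      have hmb : m.map b = l := Fib.ext (pullback.lift_snd _ _ _)
      obtain ⟨f, hf⟩ := exists_elt_with_pt (p := p) m.pt (by
        rw [← hξ]
        exact congrArg (fun t : Spec (CommRingCat.of Ω) ⟶ X => t.base default) m.w)
      let G : Fin (n + 1) → (Y ⟶ U) := Fin.lastCases b fun k => a ≫ g k
      have hpts : ∀ c : Y ⟶ U, ((L.θ Y f).map c).pt = (m.map c).pt := fun c => by
        show c.left.base (L.θ Y f).pt = c.left.base m.pt
        rw [L.pt_eq, hf]
      have heqs : ∀ c c' : Y ⟶ U, (L.θ Y f).map c = (L.θ Y f).map c' ↔ m.map c = m.map c' := fun c c' => by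
        obtain ⟨E, hE, -⟩ := exists_distinguish (ξ := ξ) c c'
        rw [hE, hE, L.pt_eq, hf]
      have hm : ∀ k, m.map (G k) = Fin.lastCases l (fun k => (L.θ V v).map (g k)) k := fun k => by
        induction k using Fin.lastCases with
        | last => simp only [G, Fin.lastCases_last]; exact hmb
        | cast k =>
          simp only [G, Fin.lastCases_castSucc]
          rw [← hma]
          exact Functor.map_comp_apply (pt ξ).fiber a (g k) m
      refine ⟨Y, f, G, fun k => ?_, fun k k' h => ?_⟩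
      · rw [hpts, hm]
        induction k using Fin.lastCases with
        | last => rw [Fin.lastCases_last]
        | cast k => rw [Fin.lastCases_castSucc]; exact hpt k
      · have h' := (heqs _ _).1 h
        rw [hm, hm] at h'
        induction k using Fin.lastCases with
        | last =>
          induction k' using Fin.lastCases with
          | last => rfl
          | cast k' =>
            simp only [Fin.lastCases_last, Fin.lastCases_castSucc] at h'
            exact absurd ⟨_, (L.natural (g k') v).symm.trans h'.symm⟩ hl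
        | cast k =>
          induction k' using Fin.lastCases with
          | last =>
            simp only [Fin.lastCases_last, Fin.lastCases_castSucc] at h'
            exact absurd ⟨_, (L.natural (g k) v).symm.trans h'⟩ hl
          | cast k' =>
            simp only [Fin.lastCases_castSucc] at h'
            rw [hinj h']
  haveI := finite_fib_pt ξ x
  obtain ⟨V, v, g, hpt, hinj⟩ := key (Nat.card {l : Fib ξ U // l.pt = x} + 1)
  have := Nat.card_le_card_of_injective
    (fun k => (⟨(L.θ V v).map (g k), hpt k⟩ : {l : Fib ξ U // l.pt = x}))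
    fun k k' h => hinj (congrArg Subtype.val h)
  simp at this

end Lifts

theorem exists_geometric_point (p : GrothendieckTopology.Point.{u} X.smallEtaleTopology) :
    ∃ (Ω : Type u) (_ : Field Ω) (_ : IsSepClosed Ω) (ξ : Spec (CommRingCat.of Ω) ⟶ X),
      Nonempty (p.fiber ≅ (Scheme.pointSmallEtale ξ).fiber) := by
  obtain ⟨Ω, iF, iS, ξ, hξ⟩ := exists_geometric_pt (basePt p)
  obtain ⟨L⟩ := exists_liftSys (p := p) ξ hξ
  exact ⟨Ω, iF, iS, ξ, ⟨NatIso.ofComponents
    (fun U => (Equiv.ofBijective (L.θ U) ⟨L.injective U, L.surjective hξ U⟩).toIso)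
    (fun {U V} g => by ext v; exact (L.natural g v).symm)⟩⟩

end Groth.Agent.EtPtClassLib
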